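import Cfsg.Agent.H616.TI.Defs
import Cfsg.Agent.S0058
import Cfsg.Agent.Lib.Cores

/-!
# S4821-QUOT: reduction to `O_{p'}(G) = 1` for groups with TI Sylow `p`-subgroups (helper327)
-/

set_option autoImplicit false

namespace Cfsg.Agent.H327.TI

open Subgroup Cfsg
open Cfsg.Agent.H666.TI (IsTI PElt pElt_of_mem isTI_of_sylow)
open Cfsg.Agent.H616.TI

universe u

section Central

variable {G : Type u} [Group G] {p : ℕ} {N : Subgroup G} [N.Normal]

/-- `p`-elements with the same image modulo a `p'`-subgroup centralised by them are equal. -/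
theorem eq_of_mk_eq [hp : Fact p.Prime] (hN : ¬ p ∣ Nat.card N)
    (hc : ∀ x : G, PElt p x → ∀ n ∈ N, x * n = n * x) {x y : G} (hx : PElt p x) (hy : PElt p y)
    (h : QuotientGroup.mk' N x = QuotientGroup.mk' N y) : x = y := by
  have hn : x⁻¹ * y ∈ N := QuotientGroup.eq.1 h
  set n := x⁻¹ * y with hndef
  have hyx : y = x * n := by rw [hndef]; group
  obtain ⟨k, hk⟩ := hx
  obtain ⟨l, hl⟩ := hy
  have hxm : x ^ p ^ (k + l) = 1 := by rw [pow_add, pow_mul, hk, one_pow]
  have hym : y ^ p ^ (k + l) = 1 := by rw [add_comm, pow_add, pow_mul, hl, one_pow]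
  have hcomm : Commute x n := hc x ⟨k, hk⟩ n hn
  have h1 : n ^ p ^ (k + l) = 1 := by
    rw [hyx, hcomm.mul_pow, hxm, one_mul] at hym
    exact hym
  have h2 : n = 1 := by
    refine PElt.eq_one (p := p) ⟨k + l, h1⟩ (n := Nat.card N) ?_ hN
    have h3 : (⟨n, hn⟩ : N) ^ Nat.card N = 1 := pow_card_eq_one'
    exact congrArg Subtype.val h3
  rw [hyx, h2, mul_one]

variable [Finite G]

theorem exists_pElt [hp : Fact p.Prime] (Q : Sylow p (G ⧸ N)) :
    ∃ P : Sylow p G, (P : Subgroup G).map (QuotientGroup.mk' N) = Q := by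
  obtain ⟨P, hP⟩ := Sylow.mapSurjective_surjective (QuotientGroup.mk'_surjective N) p Q
  exact ⟨P, congrArg (fun S : Sylow p (G ⧸ N) => (S : Subgroup (G ⧸ N))) hP⟩

theorem isTI_quot [hp : Fact p.Prime] (hTI : IsTI p G) (hN : ¬ p ∣ Nat.card N)
    (hc : ∀ x : G, PElt p x → ∀ n ∈ N, x * n = n * x) : IsTI p (G ⧸ N) := by
  refine isTI_of_sylow fun P Q x hxP hxQ hx => ?_
  obtain ⟨P', hP'⟩ := exists_pElt P
  obtain ⟨Q', hQ'⟩ := exists_pElt Q
  have hxP1 : x ∈ (P : Subgroup (G ⧸ N)) := hxP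
  have hxQ1 : x ∈ (Q : Subgroup (G ⧸ N)) := hxQ
  rw [← hP'] at hxP1
  rw [← hQ'] at hxQ1
  obtain ⟨a, ha, rfl⟩ := hxP1
  obtain ⟨b, hb, hab⟩ := hxQ1
  have h1 : b = a := eq_of_mk_eq hN hc (pElt_of_mem Q'.isPGroup' hb) (pElt_of_mem P'.isPGroup' ha) hab
  have h2 : a ≠ 1 := by
    rintro rfl
    exact hx (map_one _)
  have h3 : P' = Q' := hTI.sylow_eq (x := a) ha (h1 ▸ hb) h2
  apply Sylow.ext
  rw [← hP', ← hQ', h3]

/-- conjugates inside the Sylow subgroup modulo `N` -/
theorem mem_of_mk_mem [hp : Fact p.Prime] (hN : ¬ p ∣ Nat.card N)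
    (hc : ∀ x : G, PElt p x → ∀ n ∈ N, x * n = n * x) {P : Sylow p G} {x : G} (hx : PElt p x)
    (h : QuotientGroup.mk' N x ∈ (P : Subgroup G).map (QuotientGroup.mk' N)) :
    x ∈ (P : Subgroup G) := by
  obtain ⟨a, ha, hab⟩ := h
  rw [← eq_of_mk_eq hN hc (pElt_of_mem P.isPGroup' ha) hx hab]
  exact ha

theorem pcore_quot [hp : Fact p.Prime] (hTI : IsTI p G) (hN : ¬ p ∣ Nat.card N)
    (hc : ∀ x : G, PElt p x → ∀ n ∈ N, x * n = n * x) (P : Sylow p G)
    (hP : ¬ (P : Subgroup G).Normal) (Q : Subgroup (G ⧸ N)) (hQ : Q.Normal) (hQp : IsPGroup p Q) :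
    Q = ⊥ := by
  by_contra hne
  obtain ⟨x, hx⟩ := Subgroup.ne_bot_iff_exists_ne_one.1 hne
  have hle : Q ≤ (P : Subgroup G).map (QuotientGroup.mk' N) := by
    have h1 : Q ≤ pCore p (G ⧸ N) := Cfsg.Agent.Lib.Cores.le_pCore hQ hQp
    exact h1.trans (Cfsg.Agent.Lib.Cores.pCore_le_sylow
      (P.mapSurjective (QuotientGroup.mk'_surjective N)))
  obtain ⟨a, ha, hax⟩ := hle x.2
  have ha1 : a ≠ 1 := by
    rintro rfl
    rw [map_one] at hax
    exact hx (Subtype.ext hax.symm)
  have haP : PElt p a := pElt_of_mem P.isPGroup' ha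
  apply hP
  refine ⟨fun b hb g => ?_⟩
  have h1 : g * a * g⁻¹ ∈ (P : Subgroup G) := by
    refine mem_of_mk_mem hN hc (haP.conj g) (hle ?_)
    rw [map_mul, map_mul, map_inv, hax]
    exact hQ.conj_mem _ x.2 _
  have h2 : g • P = P := by
    refine hTI.sylow_eq (x := g * a * g⁻¹) ?_ h1 ?_
    · exact Subgroup.mem_map.2 ⟨a, ha, rfl⟩
    · intro h3
      exact ha1 (conj_eq_one_iff.1 h3)
  have h3 : g * b * g⁻¹ ∈ ((g • P : Sylow p G) : Subgroup G) := Subgroup.mem_map.2 ⟨b, hb, rfl⟩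
  rw [h2] at h3
  exact h3

theorem dvd_card_quot [hp : Fact p.Prime] (hN : ¬ p ∣ Nat.card N)
    (hc : ∀ x : G, PElt p x → ∀ n ∈ N, x * n = n * x) (hG : p ∣ Nat.card G) :
    p ∣ Nat.card (G ⧸ N) := by
  have h1 := Subgroup.card_eq_card_quotient_mul_card_subgroup N
  rw [h1] at hG
  exact (hp.out.dvd_mul.1 hG).resolve_right hN

theorem crit_of_quot [hp : Fact p.Prime] (hN : ¬ p ∣ Nat.card N)
    (hc : ∀ x : G, PElt p x → ∀ n ∈ N, x * n = n * x) (Q : Sylow p (G ⧸ N)) (z : G ⧸ N)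
    (hcr : Crit p (Q : Subgroup (G ⧸ N)) z) : ∃ (P : Sylow p G) (w : G), Crit p (P : Subgroup G) w := by
  obtain ⟨P, hP⟩ := exists_pElt Q
  obtain ⟨hzQ, hz1, hzc, hcr⟩ := hcr
  rw [← hP] at hzQ hzc hcr
  clear hP
  obtain ⟨w, hw, rfl⟩ := hzQ
  set π := QuotientGroup.mk' N with hπ
  have hsurj : Function.Surjective π := QuotientGroup.mk'_surjective N
  have key : ∀ {x y : G}, PElt p x → PElt p y → π x = π y → x = y :=
    fun hx hy h => eq_of_mk_eq hN hc hx hy h
  -- centralisers of `p`-elements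
  have hcent : ∀ {x g : G}, PElt p x → π g * π x = π x * π g → g * x = x * g := by
    intro x g hx h
    have h1 : g * x * g⁻¹ = x := by
      refine key (hx.conj g) hx ?_
      rw [map_mul, map_mul, map_inv, h, mul_inv_cancel_right]
    calc g * x = g * x * g⁻¹ * g := by group
      _ = x * g := by rw [h1]
  have hPp : ∀ {x : G}, x ∈ (P : Subgroup G) → PElt p x := fun hx => pElt_of_mem P.isPGroup' hx
  have hNC : N ≤ centralizer ((P : Subgroup G) : Set G) := by
    intro n hn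
    rw [mem_centralizer_iff]
    exact fun x hx => hc x (hPp hx) n hn
  -- the centraliser of `P` is the preimage of the centraliser of the image
  have hCP : ∀ g : G, π g ∈ centralizer (((P : Subgroup G).map π : Subgroup (G ⧸ N)) : Set (G ⧸ N)) ↔
      g ∈ centralizer ((P : Subgroup G) : Set G) := by
    intro g
    rw [mem_centralizer_iff, mem_centralizer_iff]
    constructor
    · intro h x hx
      exact (hcent (hPp hx) (h _ ⟨x, hx, rfl⟩).symm).symm
    · rintro h _ ⟨x, hx, rfl⟩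
      rw [← map_mul, ← map_mul, h x hx]
  have hCw : ∀ g : G, π g ∈ centralizer ({π w} : Set (G ⧸ N)) ↔ g ∈ centralizer ({w} : Set G) := by
    intro g
    rw [mem_centralizer_singleton_iff, mem_centralizer_singleton_iff]
    constructor
    · intro h
      exact hcent (hPp hw) h
    · intro h
      rw [← map_mul, ← map_mul, h]
  refine ⟨P, w, hw, ?_, ?_, ?_⟩
  · rintro rfl
    exact hz1 (map_one _)
  · exact (hCP w).1 hzc
  · intro g hg hgo hgc
    have h1 := hcr (π g) ((hCw g).2 hg) (fun h => hgo (h.trans (orderOf_map_dvd π g)))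
      (fun h => hgc ((hCP g).1 h))
    have hcard : Nat.card ((P : Subgroup G).map π) = Nat.card (P : Subgroup G) := by
      symm
      refine Nat.card_congr (Equiv.ofBijective
        (fun x : (P : Subgroup G) => (⟨π x, ⟨x, x.2, rfl⟩⟩ : (P : Subgroup G).map π)) ⟨?_, ?_⟩)
      · intro x y h
        exact Subtype.ext (key (hPp x.2) (hPp y.2) (congrArg Subtype.val h))
      · rintro ⟨_, ⟨x, hx, rfl⟩⟩
        exact ⟨⟨x, hx⟩, rfl⟩
    have hcard2 : Nat.card ↥((P : Subgroup G) ⊓ centralizer ({g} : Set G)) ≤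
        Nat.card ↥((P : Subgroup G).map π ⊓ centralizer ({π g} : Set (G ⧸ N))) := by
      refine Nat.card_le_card_of_injective
        (fun x : ↥((P : Subgroup G) ⊓ centralizer ({g} : Set G)) =>
          (⟨π x, ⟨⟨x, x.2.1, rfl⟩, ?_⟩⟩ :
            ↥((P : Subgroup G).map π ⊓ centralizer ({π g} : Set (G ⧸ N))))) ?_
      · have h3 := mem_centralizer_singleton_iff.1 x.2.2
        change π x ∈ centralizer ({π g} : Set (G ⧸ N))
        rw [mem_centralizer_singleton_iff, ← map_mul, ← map_mul, h3]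
      · intro x y h
        exact Subtype.ext (key (hPp x.2.1) (hPp y.2.1) (congrArg Subtype.val h))
    have hidx : autIdx (P : Subgroup G) w = autIdx ((P : Subgroup G).map π) (π w) := by
      unfold autIdx
      have e1 : (centralizer ({w} : Set G)) =
          (centralizer ({π w} : Set (G ⧸ N))).comap π := by
        ext g
        rw [mem_comap, hCw g]
      have e2 : (P : Subgroup G) ⊔ centralizer ((P : Subgroup G) : Set G) =
          ((P : Subgroup G).map π ⊔
            centralizer (((P : Subgroup G).map π : Subgroup (G ⧸ N)) : Set (G ⧸ N))).comap π := by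
        have e3 : centralizer (((P : Subgroup G).map π : Subgroup (G ⧸ N)) : Set (G ⧸ N)) =
            (centralizer ((P : Subgroup G) : Set G)).map π := by
          ext y
          obtain ⟨g, rfl⟩ := hsurj y
          rw [hCP g]
          constructor
          · exact fun h => ⟨g, h, rfl⟩
          · rintro ⟨g', hg', hgg⟩
            have h4 : π g' ∈ centralizer
                (((P : Subgroup G).map π : Subgroup (G ⧸ N)) : Set (G ⧸ N)) := (hCP g').2 hg'
            rw [hgg] at h4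
            exact (hCP g).1 h4
        rw [e3, ← Subgroup.map_sup, Subgroup.comap_map_eq, QuotientGroup.ker_mk']
        exact (sup_eq_left.2 (hNC.trans le_sup_right)).symm
      rw [e2, Subgroup.relIndex_comap, e1, map_comap_eq_self_of_surjective hsurj]
    rw [hidx, ← hcard]
    exact (Nat.mul_le_mul_left _ hcard2).trans h1

end Central

/-- `P` centralises `O_{p'}(G)` if the Sylow `p`-subgroups are TI and contain a noncyclic abelian
subgroup. -/
theorem comm_core {G : Type u} [Group G] [Finite G] {p : ℕ} [hp : Fact p.Prime] (hTI : IsTI p G)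
    (P : Sylow p G) (V : Subgroup G) (hVP : V ≤ P) (hVc : IsMulCommutative V) (hV : ¬ IsCyclic V)
    (x : G) (hx : PElt p x) (n : G) (hn : n ∈ pPrimeCore p G) : x * n = n * x := by
  set N := pPrimeCore p G with hNdef
  haveI hNn : N.Normal := Cfsg.pPrimeCore_normal p G
  have hNc : (Nat.card N).Coprime p := Cfsg.Agent.Lib.Cores.pPrimeCore_coprime p
  have hNP : N ⊓ (P : Subgroup G) = ⊥ := by
    rw [eq_bot_iff]
    intro y hy
    rw [mem_bot]
    refine PElt.eq_one (p := p) (pElt_of_mem P.isPGroup' hy.2) (n := Nat.card N) ?_ ?_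
    · have h3 : (⟨y, hy.1⟩ : N) ^ Nat.card N = 1 := pow_card_eq_one'
      exact congrArg Subtype.val h3
    · intro h
      exact hp.out.one_lt.ne' (Nat.eq_one_of_dvd_coprimes hNc h dvd_rfl)
  -- `P` centralises `N ⊓ N(P)`
  have h1 : ∀ m ∈ N, m ∈ normalizer ((P : Subgroup G) : Set G) →
      m ∈ centralizer ((P : Subgroup G) : Set G) := by
    intro m hm hmn
    rw [mem_centralizer_iff]
    intro y hy
    have h2 : y * m * y⁻¹ * m⁻¹ ∈ N ⊓ (P : Subgroup G) := by
      refine ⟨N.mul_mem (hNn.conj_mem m hm y) (N.inv_mem hm), ?_⟩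
      have h3 : m * y⁻¹ * m⁻¹ ∈ (P : Subgroup G) := (mem_normalizer_iff.1 hmn y⁻¹).1 (inv_mem hy)
      have h4 := (P : Subgroup G).mul_mem hy h3
      have h5 : y * m * y⁻¹ * m⁻¹ = y * (m * y⁻¹ * m⁻¹) := by group
      rw [h5]
      exact h4
    rw [hNP, mem_bot] at h2
    have h3 : y * m * y⁻¹ = m := mul_inv_eq_one.1 h2
    exact mul_inv_eq_iff_eq_mul.1 h3
  have hcop : (Nat.card V).Coprime (Nat.card N) := by
    have hVp : IsPGroup p V := P.isPGroup'.to_le hVP
    obtain ⟨k, hk⟩ := IsPGroup.iff_card.1 hVp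
    rw [hk]
    exact Nat.Coprime.pow_left k hNc.symm
  have hgen := Cfsg.Agent.S0058.result V N hV
    (by rw [Subgroup.normalizer_eq_top N]; exact le_top) hcop
  have hNC : N ≤ centralizer ((P : Subgroup G) : Set G) := by
    rw [← hgen]
    refine iSup_le fun a => iSup_le fun ha => ?_
    intro m hm
    refine h1 m hm.1 ?_
    have h2 : m * a = a * m := mem_centralizer_singleton_iff.1 hm.2
    have h3 : m • P = P := by
      refine hTI.sylow_eq (x := a) ?_ (hVP ha.1) ha.2
      refine Subgroup.mem_map.2 ⟨a, hVP ha.1, ?_⟩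
      change m * a * m⁻¹ = a
      rw [h2, mul_inv_cancel_right]
    rw [mem_normalizer_iff]
    intro y
    constructor
    · intro hy
      have h4 : m * y * m⁻¹ ∈ ((m • P : Sylow p G) : Subgroup G) := Subgroup.mem_map.2 ⟨y, hy, rfl⟩
      rw [h3] at h4
      exact h4
    · intro hy
      have hy0 : m * y * m⁻¹ ∈ ((m • P : Sylow p G) : Subgroup G) := by
        rw [h3]; exact hy
      obtain ⟨y', hy', hyy⟩ := hy0
      have h5 : m * y' * m⁻¹ = m * y * m⁻¹ := hyy
      have h6 : y' = y := by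
        have := mul_right_cancel h5
        exact mul_left_cancel this
      rw [← h6]
      exact hy'
  obtain ⟨Q, hQ⟩ := Cfsg.Agent.H666.TI.exists_sylow_mem hx
  obtain ⟨g, hg⟩ := MulAction.exists_smul_eq G P Q
  have hx2 : x ∈ ((g • P : Sylow p G) : Subgroup G) := by
    rw [hg]; exact hQ
  obtain ⟨y, hy, hyx⟩ := hx2
  have hyx' : g * y * g⁻¹ = x := hyx
  have h7 : g⁻¹ * n * g ∈ N := by
    have := hNn.conj_mem n hn g⁻¹
    rwa [inv_inv] at this
  have h8 := (mem_centralizer_iff.1 (hNC h7)) y hy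
  calc x * n = g * (y * (g⁻¹ * n * g)) * g⁻¹ := by rw [← hyx']; group
    _ = g * ((g⁻¹ * n * g) * y) * g⁻¹ := by rw [h8]
    _ = n * x := by rw [← hyx']; group

/-- **QUOT** (helper616's plan of S4821). -/
theorem goalQuot : GoalQuot.{u} := by
  intro G _ _ p hp hTI P hP hV
  obtain ⟨V, hVP, hVc, hV⟩ := hV
  haveI hNn : (pPrimeCore p G).Normal := Cfsg.pPrimeCore_normal p G
  have hNc : (Nat.card (pPrimeCore p G)).Coprime p := Cfsg.Agent.Lib.Cores.pPrimeCore_coprime p
  have hN : ¬ p ∣ Nat.card (pPrimeCore p G) := fun h =>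
    hp.out.one_lt.ne' (Nat.eq_one_of_dvd_coprimes hNc h dvd_rfl)
  have hc : ∀ x : G, PElt p x → ∀ n ∈ pPrimeCore p G, x * n = n * x :=
    comm_core hTI P V hVP hVc hV
  refine ⟨pPrimeCore p G, hNn, isTI_quot hTI hN hc, ?_, pcore_quot hTI hN hc P hP,
    dvd_card_quot hN hc ?_, ?_⟩
  · intro Q hQ hQp
    have h1 : Q ≤ pPrimeCore p (G ⧸ pPrimeCore p G) :=
      Cfsg.Agent.Lib.Cores.le_pPrimeCore hQ ((Nat.Prime.coprime_iff_not_dvd hp.out).2 hQp).symm
    rw [Cfsg.Agent.Lib.Cores.pPrimeCore_quotient_pPrimeCore] at h1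
    exact le_bot_iff.1 h1
  · have h1 : V ≠ ⊥ := by
      rintro rfl
      exact hV inferInstance
    obtain ⟨x, hx⟩ := Subgroup.ne_bot_iff_exists_ne_one.1 h1
    have h2 : IsPGroup p V := P.isPGroup'.to_le hVP
    obtain ⟨k, hk⟩ := IsPGroup.iff_card.1 h2
    have h3 : k ≠ 0 := by
      rintro rfl
      rw [pow_zero] at hk
      have : V = ⊥ := Subgroup.card_eq_one.1 hk
      exact h1 this
    exact ((dvd_pow_self p h3).trans hk.symm.dvd).trans (Subgroup.card_subgroup_dvd_card V)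
  · rintro ⟨Q, z, hQ⟩
    exact crit_of_quot hN hc Q z hQ

end Cfsg.Agent.H327.TI
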